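import Cfsg.Agent.LargeExtra.Perp
import Cfsg.Agent.KFacts.LargeO2
import Cfsg.Agent.H715.Fpr.Row4_m3
import Cfsg.Agent.H940.EngData
import Cfsg.Agent.H547.SelfCent.McLHS
import Cfsg.Agent.H547.SelfCent.Conway
import Cfsg.Agent.H393.Iso.Co2
import Cfsg.Agent.KFacts.CoTwo.QuotInst
import Cfsg.Agent.SporadicStructure.Co2RankThree
import Cfsg.Agent.Omega.Quasithin.Row.McL_m3
import Cfsg.Agent.Schreier.McLaughlin
import Cfsg.Agent.H898.RowCo0
import Cfsg.Agent.S0245
import Cfsg.Agent.H494.F22.Lin_m3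
import Cfsg.Agent.H147.Gen.Outer_m3
import Cfsg.Agent.FastGrp
import Cfsg.Agent.Prune
set_option linter.all false

section
prune_inst 0x7f00000000000000000000000000000000000000000000000000000000000000000000000000000000000000000000000000000000000000000000000000000000000000000000000000000000000000003fffffffffffffffffffffffffffbeffbdffffffff

-- part: H89/SepCo2
section
set_option linter.all false
open scoped Cfsg.Agent.FastGrp

-- part: H89/ExtraIdx
section
/-!
# The index of a proper subgroup of a simple group with a large extraspecial subgroup (helper89)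

`index_ge` : `Q` large extraspecial of order `2 ^ (2 n + 1)` with centre `⟨z⟩` and `C(z)` irreducible on `Q / ⟨z⟩`; then
every proper subgroup of the finite simple group `G` has index at least `2 ^ (n + 2)`.
-/

set_option autoImplicit false

namespace Cfsg.Agent.H89.ExtraIdx

open Subgroup Cfsg.Agent.Co2Type.Quad Cfsg.Agent.LargeExtra Cfsg.Agent.KFacts.LargeO2

variable {G : Type*} [Group G] {Q : Subgroup G} {z : G}

/-- a subgroup of `Q` avoiding `z` is abelian -/
theorem comm_of (h : Large Q z) {A : Subgroup G} (hA : A ≤ Q) (hz : z ∉ A) {a b : G} (ha : a ∈ A) (hb : b ∈ A) :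
    a * b = b * a := by
  rcases h.comm a (hA ha) b (hA hb) with h1 | h1
  · exact h1
  · exfalso
    apply hz
    have : z = (b * a)⁻¹ * (a * b) := by rw [h1]; group
    rw [this]
    exact A.mul_mem (A.inv_mem (A.mul_mem hb ha)) (A.mul_mem ha hb)

/-- a subgroup of `Q` avoiding `z` has order at most `√|V|` -/
theorem card_sq_le [Finite Q] (h : Large Q z) {A : Subgroup G} (hA : A ≤ Q) (hz : z ∉ A) :
    Nat.card A * Nat.card A ≤ Nat.card h.V := by
  have h1 := Perp.card_sq_le h (Local.sub h A) (by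
    rintro v ⟨x, hx, rfl⟩ w ⟨y, hy, rfl⟩
    rw [h.b_pr]
    exact comm_of h hA hz hx hy)
  have h2 : Nat.card A ≤ Nat.card (Local.sub h A) := by
    let f : A → Local.sub h A := fun a => ⟨h.pr ⟨a, hA a.2⟩, ⟨⟨a, hA a.2⟩, a.2, rfl⟩⟩
    refine Nat.card_le_card_of_injective f ?_
    intro a b hab
    have h3 : h.pr ⟨a, hA a.2⟩ = h.pr ⟨b, hA b.2⟩ := congrArg Subtype.val hab
    rw [h.pr_eq_pr] at h3
    rcases h3 with h3 | h3
    · exact Subtype.ext h3
    · exfalso
      apply hz
      have : z = (b : G)⁻¹ * a := by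
        have h4 : (a : G) = b * z := h3
        rw [h4]; group
      rw [this]
      exact A.mul_mem (A.inv_mem b.2) a.2
  exact (Nat.mul_le_mul h2 h2).trans h1

/-- the subgroup `A⟨z⟩` -/
def addZ (h : Large Q z) {A : Subgroup G} (hA : A ≤ Q) : Subgroup G where
  carrier := {y | y ∈ A ∨ y * z ∈ A}
  one_mem' := Or.inl A.one_mem
  mul_mem' := by
    intro a b ha hb
    have hcz : ∀ c ∈ A, c * z = z * c := fun c hc => h.comm_z c (hA hc)
    have hbz : b * z = z * b := by
      rcases hb with hb | hb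
      · exact hcz b hb
      · have h1 := hcz _ hb
        have h2 : b * z * z = z * b * z := by rw [h1]; group
        exact mul_right_cancel h2
    rcases ha with ha | ha <;> rcases hb with hb | hb
    · exact Or.inl (A.mul_mem ha hb)
    · exact Or.inr (by rw [mul_assoc]; exact A.mul_mem ha hb)
    · refine Or.inr ?_
      rw [mul_assoc, hbz, ← mul_assoc]
      exact A.mul_mem ha hb
    · refine Or.inl ?_
      have : a * b = a * z * (b * z) := by
        rw [hbz, mul_assoc a z, ← mul_assoc z z b, h.z_sq, one_mul]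
      rw [this]
      exact A.mul_mem ha hb
  inv_mem' := by
    intro a ha
    rcases ha with ha | ha
    · exact Or.inl (A.inv_mem ha)
    · refine Or.inr ?_
      have h1 := h.comm_z _ (hA ha)
      have h2 : a * z = z * a := by
        have h2 : a * z * z = z * a * z := by rw [h1]; group
        exact mul_right_cancel h2
      have : a⁻¹ * z = (a * z)⁻¹ := by rw [h2, mul_inv_rev, h.z_inv]
      rw [this]
      exact A.inv_mem ha

theorem addZ_le (h : Large Q z) {A : Subgroup G} (hA : A ≤ Q) : addZ h hA ≤ Q := by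
  rintro y (hy | hy)
  · exact hA hy
  · have := Q.mul_mem (hA hy) h.z_mem
    rwa [mul_assoc, h.z_sq, mul_one] at this

theorem mul_z_mem (h : Large Q z) {A : Subgroup G} (hA : A ≤ Q) {y : G} (hy : y ∈ addZ h hA) : y * z ∈ addZ h hA := by
  refine (addZ h hA).mul_mem hy (Or.inr ?_)
  rw [h.z_sq]
  exact A.one_mem

theorem card_addZ_le [Finite Q] (h : Large Q z) {A : Subgroup G} (hA : A ≤ Q) :
    Nat.card (addZ h hA) ≤ 2 * Nat.card A := by
  classical
  have : Finite A := Finite.of_injective _ (Subgroup.inclusion_injective hA)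
  let f : addZ h hA → Bool × A := fun y => if hy : (y : G) ∈ A then (true, ⟨y, hy⟩) else
    (false, ⟨(y : G) * z, y.2.resolve_left hy⟩)
  have h1 : Nat.card (addZ h hA) ≤ Nat.card (Bool × A) := by
    refine Nat.card_le_card_of_injective f ?_
    intro a b hab
    simp only [f] at hab
    split_ifs at hab with ha hb hb
    · rw [Prod.mk.injEq, Subtype.mk.injEq] at hab
      exact Subtype.ext hab.2
    · rw [Prod.mk.injEq] at hab
      exact absurd hab.1 (by decide)
    · rw [Prod.mk.injEq] at hab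
      exact absurd hab.1 (by decide)
    · rw [Prod.mk.injEq, Subtype.mk.injEq] at hab
      exact Subtype.ext (mul_right_cancel hab.2)
  rwa [Nat.card_prod, Nat.card_eq_fintype_card (α := Bool), Fintype.card_bool] at h1

/-- **The index of a proper subgroup.** -/
theorem index_ge [Finite G] [IsSimpleGroup G] (h : Large Q z) {n : ℕ} (hn : 1 ≤ n) (hc : Nat.card Q = 2 ^ (2 * n + 1))
    (irr : Irr Q z) {H : Subgroup G} (hH : H ≠ ⊤) : 2 ^ (n + 2) ≤ H.index := by
  by_contra hcon
  push Not at hcon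
  have hV : Nat.card h.V = 2 ^ (2 * n) := by
    have h1 := h.card_eq
    rw [hc, pow_succ] at h1
    omega
  have hcardX : Nat.card (G ⧸ H) = H.index := rfl
  -- the orbits of `Q` on the moved points
  have key : ∀ x : G ⧸ H, z • x ≠ x → Nat.card ↥(Q ⊓ MulAction.stabilizer G x) ≤ 2 ^ n ∧
      2 ^ (n + 1) ≤ (MulAction.orbit Q x).ncard ∧
      (MulAction.orbit Q x).ncard * Nat.card ↥(Q ⊓ MulAction.stabilizer G x) = 2 ^ (2 * n + 1) := by
    intro x hx
    have hz : z ∉ Q ⊓ MulAction.stabilizer G x := fun hz => hx hz.2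
    have h1 := card_sq_le h inf_le_left hz
    rw [hV] at h1
    have h2 : Nat.card ↥(Q ⊓ MulAction.stabilizer G x) ≤ 2 ^ n := by
      by_contra hlt
      push Not at hlt
      have h3 := Nat.mul_lt_mul'' hlt hlt
      rw [← pow_add, ← two_mul] at h3
      omega
    have h3 : Nat.card (MulAction.stabilizer Q x) = Nat.card ↥(Q ⊓ MulAction.stabilizer G x) := by
      refine Nat.card_congr ⟨fun g => ⟨(g : Q), (g : Q).2, g.2⟩, fun g => ⟨⟨g, g.2.1⟩, g.2.2⟩, fun g => rfl, fun g => rfl⟩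
    have h4 : (MulAction.orbit Q x).ncard * Nat.card ↥(Q ⊓ MulAction.stabilizer G x) = 2 ^ (2 * n + 1) := by
      rw [← MulAction.index_stabilizer, ← h3, mul_comm, Subgroup.card_mul_index, hc]
    refine ⟨h2, ?_, h4⟩
    by_contra hlt
    push Not at hlt
    have h5 : (MulAction.orbit Q x).ncard * Nat.card ↥(Q ⊓ MulAction.stabilizer G x) < 2 ^ (n + 1) * 2 ^ n := by
      have h6 : 0 < 2 ^ n := by positivity
      calc _ ≤ (MulAction.orbit Q x).ncard * 2 ^ n := Nat.mul_le_mul_left _ h2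
        _ < 2 ^ (n + 1) * 2 ^ n := Nat.mul_lt_mul_of_pos_right hlt h6
    rw [h4, ← pow_add] at h5
    have h6 : 2 * n + 1 = n + 1 + n := by ring
    rw [h6] at h5
    exact lt_irrefl _ h5
  -- two moved points are in the same orbit
  have same : ∀ x y : G ⧸ H, z • x ≠ x → z • y ≠ y → y ∈ MulAction.orbit Q x := by
    intro x y hx hy
    by_contra hne
    have hdis : Disjoint (MulAction.orbit Q x) (MulAction.orbit Q y) := by
      rw [Set.disjoint_left]
      intro w hw hw2
      apply hne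
      rw [← MulAction.orbit_eq_iff]
      rw [← MulAction.orbit_eq_iff] at hw hw2
      rw [← hw2, hw]
    have h1 := Set.ncard_union_eq hdis (Set.toFinite _) (Set.toFinite _)
    have h2 : (MulAction.orbit Q x ∪ MulAction.orbit Q y).ncard ≤ Nat.card (G ⧸ H) := by
      rw [← Set.ncard_univ]
      exact Set.ncard_le_ncard (Set.subset_univ _) (Set.toFinite _)
    have h3 := (key x hx).2.1
    have h4 := (key y hy).2.1
    rw [hcardX] at h2
    have h5 : 2 ^ (n + 2) = 2 ^ (n + 1) + 2 ^ (n + 1) := by ring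
    omega
  -- a moved point
  obtain ⟨x, hx⟩ : ∃ x : G ⧸ H, z • x ≠ x := by
    by_contra hall
    push Not at hall
    have h1 : z ∈ H.normalCore := by
      rw [Subgroup.normalCore_eq_ker, MonoidHom.mem_ker]
      exact Equiv.ext hall
    rcases (inferInstance : (H.normalCore).Normal).eq_bot_or_eq_top with h2 | h2
    · rw [h2, Subgroup.mem_bot] at h1
      exact h.z_ne h1
    · exact hH (top_le_iff.1 (h2 ▸ H.normalCore_le))
  set A := Q ⊓ MulAction.stabilizer G x with hA
  have hAQ : A ≤ Q := inf_le_left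
  have hinv : ∀ u : G, u * z = z * u → ∀ y ∈ addZ h hAQ, u * y * u⁻¹ ∈ addZ h hAQ := by
    intro u hu y hy
    have hux : z • (u • x) ≠ u • x := by
      rw [← mul_smul, ← hu, mul_smul]
      intro he
      exact hx ((MulAction.injective u) he)
    obtain ⟨⟨r, hr⟩, hrx⟩ := same x _ hx hux
    have hrx' : r • x = u • x := hrx
    have hmain : ∀ y ∈ A, u * y * u⁻¹ ∈ addZ h hAQ := by
      intro y hy
      have hwQ : u * y * u⁻¹ ∈ Q := h.conj_mem u hu y hy.1
      have hst : (u * y * u⁻¹) • (r • x) = r • x := by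
        rw [hrx', ← mul_smul, inv_mul_cancel_right, mul_smul, show y • x = x from hy.2]
      have hw : r⁻¹ * (u * y * u⁻¹) * r ∈ A := by
        refine ⟨Q.mul_mem (Q.mul_mem (Q.inv_mem hr) hwQ) hr, ?_⟩
        show (r⁻¹ * (u * y * u⁻¹) * r) • x = x
        rw [mul_smul, mul_smul, hst, inv_smul_smul]
      rcases h.comm _ hwQ r hr with h1 | h1
      · left
        rwa [mul_assoc, h1, inv_mul_cancel_left] at hw
      · right
        have h2 : r⁻¹ * (u * y * u⁻¹) * r = u * y * u⁻¹ * z := by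
          rw [mul_assoc, h1, mul_assoc r, inv_mul_cancel_left]
        rwa [h2] at hw
    rcases hy with hy | hy
    · exact hmain y hy
    · have h1 := mul_z_mem h hAQ (hmain _ hy)
      have h2 : u * (y * z) * u⁻¹ * z = u * y * u⁻¹ := by
        have h3 : z * u⁻¹ = u⁻¹ * z := by
          rw [eq_inv_mul_iff_mul_eq, ← mul_assoc, hu, mul_inv_cancel_right]
        calc u * (y * z) * u⁻¹ * z = u * y * (z * u⁻¹) * z := by group
          _ = u * y * u⁻¹ * (z * z) := by rw [h3]; group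
          _ = u * y * u⁻¹ := by rw [h.z_sq, mul_one]
      rwa [h2] at h1
  have hk := key x hx
  have h2n : 2 ^ (n + 2) ≤ 2 ^ (2 * n + 1) := Nat.pow_le_pow_right (by norm_num) (by omega)
  rcases irr (addZ h hAQ) (addZ_le h hAQ) hinv with h1 | h1
  · -- `A = 1`
    have hA1 : Nat.card A = 1 := by
      rw [Subgroup.card_eq_one, eq_bot_iff]
      intro y hy
      rcases h1 y (Or.inl hy) with h2 | h2
      · exact h2
      · exfalso
        rw [h2] at hy
        exact hx hy.2
    have h3 := hk.2.2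
    rw [hA1, mul_one] at h3
    have h4 : (MulAction.orbit Q x).ncard ≤ Nat.card (G ⧸ H) := by
      rw [← Set.ncard_univ]
      exact Set.ncard_le_ncard (Set.subset_univ _) (Set.toFinite _)
    rw [hcardX] at h4
    omega
  · have h3 := card_addZ_le h hAQ
    rw [h1, hc] at h3
    have h4 := hk.1
    have h5 : 2 ^ (2 * n + 1) ≤ 2 * 2 ^ n := h3.trans (Nat.mul_le_mul_left 2 h4)
    have h6 : 2 * 2 ^ n = 2 ^ (n + 1) := by ring
    rw [h6] at h5
    have h7 := (Nat.pow_le_pow_iff_right (by norm_num : 1 < 2)).1 h5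
    omega

end Cfsg.Agent.H89.ExtraIdx
end

-- part: H89/EngAllow
section
/-!
# The separation engine with some indices excluded by other means (helper89)
-/

set_option autoImplicit false

namespace Cfsg.Agent.H89.EngAllow

open Subgroup Cfsg.Agent.OrdDiv Cfsg.Agent.H940 Cfsg.Agent.H940.Eng
open Cfsg.Agent.H940.MaxCls

/-- two subgroups are apart if the possible indices of a common proper overgroup are excluded -/
theorem apart_allow {G : Type*} [Group G] {l : List (ℕ × ℕ)} {n : ℕ} {ords : List ℕ}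
    {loc : List LD} (c : Ctx G l n ords loc) {A B : Subgroup G} {a b : ℕ} (ha : a ∣ Nat.card A) (hb : b ∣ Nat.card B)
    (lD : List (ℕ × ℕ)) (allow fA fB : List ℕ) (bd : ℕ) (hfA : ∀ p ∈ fA, Full p A) (hfB : ∀ p ∈ fB, Full p B)
    (hc : chk l n a b lD allow (fA ++ fB) bd loc ords = true)
    (hal : ∀ K : Subgroup G, K ≠ ⊤ → K.index ∉ allow) : MaxCls.Apart A B := by
  intro g K h1 h2
  have := c.fin
  have hb' : b ∣ Nat.card K := by
    refine hb.trans ?_
    rw [← MaxCls.card_map_conj g]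
    exact card_dvd_of_le (MaxCls.map_conj_le h2)
  have h3 := c.over lD allow (fA ++ fB) bd hc (ha.trans (card_dvd_of_le h1)) hb' (fun p hp => by
    rcases List.mem_append.1 hp with hp | hp
    · exact (hfA p hp).mono h1
    · exact (hfB p hp).conj h2)
  rcases h3 with h3 | h3
  · exact h3
  · by_contra hK
    exact hal K hK h3

end Cfsg.Agent.H89.EngAllow
end

-- part: H89/SepCo2
section
/-!
# Row `Co2` of S5906/S5907 (helper89)

Five pairwise apart subgroups: the maximal subgroup of index 2300, the centralizer of a 2-central involution, `McL`, the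
normalizers of the Sylow 5- and 23-subgroups. There is no subgroup of index 23 or 46 (`H89.ExtraIdx.index_ge`).
-/

set_option autoImplicit false

namespace Cfsg.Agent.H89.SepCo2

open Subgroup Cfsg.Agent.OrdDiv Cfsg.Agent.H940 Cfsg.Agent.H940.Eng Cfsg.Agent.H940.Eng.D
open Cfsg.Agent.H940.MaxCls

abbrev G : Type := Cfsg.Spor.Co2

theorem simple : IsSimpleGroup G := Cfsg.Agent.Schreier.CoTwoStab.isSimpleGroup
theorem fin : Finite G := Cfsg.Agent.Schreier.CoTwoStab.finite
theorem card : Nat.card G = n_co2 := Cfsg.Agent.Schreier.CoTwoStab.card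

theorem hna : ¬ ∀ a b : G, a * b = b * a := fun h => Cfsg.Agent.Schreier.CoTwoStab.not_comm ⟨⟨h⟩⟩

/-- the centralizer of `zpowers x` -/
theorem cent_zpowers {X : Type*} [Group X] (x : X) : centralizer (zpowers x : Set X) = centralizer ({x} : Set X) := by
  rw [zpowers_eq_closure, centralizer_closure]

theorem exists_gen {X : Type*} [Group X] {p : ℕ} (hp : p.Prime) {R : Subgroup X} (hR : Nat.card R = p) :
    ∃ x : X, orderOf x = p ∧ R = zpowers x := by
  have : Fact p.Prime := ⟨hp⟩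
  have hfin : Finite R := Nat.finite_of_card_ne_zero (by rw [hR]; exact hp.ne_zero)
  obtain ⟨y, hy⟩ := exists_prime_orderOf_dvd_card' (G := R) p (by rw [hR])
  refine ⟨y, by rw [orderOf_coe, hy], ?_⟩
  symm
  apply eq_of_le_of_card_ge
  · rw [zpowers_le]; exact y.2
  · rw [hR, Nat.card_zpowers, orderOf_coe, hy]

theorem cent23 {x : G} (hx : orderOf x = 23) : Nat.card (centralizer ({x} : Set G)) = 23 := by
  have := fin
  exact H547.SelfCent.Conway.co2 ⟨MulEquiv.refl _⟩ (H393.Iso.na_co2 ⟨MulEquiv.refl _⟩) hx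

theorem cent11 {x : G} (hx : orderOf x = 11) : Nat.card (centralizer ({x} : Set G)) ≤ 132 := by
  have := fin
  have hle : Cfsg.Spor.Co2 ≤ Cfsg.Co0 := inf_le_left
  have hne : Cfsg.Spor.leechU ≠ 0 := by
    intro h
    have h2 := congrArg (fun w : Cfsg.leechLattice => (w : Cfsg.GolayPt → ℤ) none) h
    have h3 : (Cfsg.Spor.leechU : Cfsg.GolayPt → ℤ) none = 4 := rfl
    have h4 : ((0 : Cfsg.leechLattice) : Cfsg.GolayPt → ℤ) none = 0 := rfl
    have h5 : (Cfsg.Spor.leechU : Cfsg.GolayPt → ℤ) none = ((0 : Cfsg.leechLattice) : Cfsg.GolayPt → ℤ) none := h2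
    rw [h3, h4] at h5
    norm_num at h5
  have h1 : 2 * Nat.card (centralizer ({x} : Set G)) ≤ 264 := H547.SelfCent.McLHS.of_injective (inclusion hle) (inclusion_injective hle)
    (SporadicA.Co0Mono.signCo0 SporadicA.Co1Simple.allOne) SporadicA.Co1Simple.allOne_mem_center
    (H547.SelfCent.McLHS.neg_not_mem (v := Cfsg.Spor.leechU) hne hle (fun k hk => hk.2)) hx
  omega


open Cfsg.Agent.SigZeroCo2.Lin in
theorem not_three {x y : G} (hx : orderOf x = 11) (hy : orderOf y = 3) : x * y ≠ y * x := by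
  intro hxy
  have hle : Cfsg.Spor.Co2 ≤ Cfsg.Co0 := inf_le_left
  have h0 := H898.RowCo0.three_eleven (g := inclusion hle y) (h := inclusion hle x)
    ((orderOf_injective (inclusion hle) (inclusion_injective hle) y).trans hy)
    ((orderOf_injective (inclusion hle) (inclusion_injective hle) x).trans hx)
    (by rw [Commute, SemiconjBy, ← map_mul, ← hxy, map_mul])
  have h1 : (inclusion hle y) • Cfsg.Spor.leechU = Cfsg.Spor.leechU := y.2.2
  have h2 := PreUniqCo.FixBound.mem_fix_tau.2 h1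
  rw [Submodule.finrank_eq_zero.1 h0, Submodule.mem_bot] at h2
  have h3 := congrFun h2 none
  change ((Cfsg.Spor.vecU none : ℤ) : ℚ) = 0 at h3
  rw [show Cfsg.Spor.vecU none = 4 from rfl] at h3
  norm_num at h3

/-- the local data -/
def loc : List LD := [⟨11, 110, [(2, 1), (5, 1), (11, 1)]⟩, ⟨23, 23, [(11, 1), (23, 1)]⟩]

theorem chk11 : cnP n_co2 11 [(2, 3), (5, 1), (7, 1), (11, 1)] (fun c m => !(Nat.ble c 132) ||
    ((110 % c == 0) && (110 % m == 0))) = true := by decide +kernel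

theorem chk23 : cnP n_co2 23 [(23, 1)] (fun c m => (c == 23) && (m == 253)) = true := by decide +kernel

theorem cent_dvd {R : Subgroup G} (hR : Nat.card R = 11) : Nat.card (centralizer (R : Set G)) ≤ 132 ∧
    Nat.card (centralizer (R : Set G)) ∣ prodl [(2, 3), (5, 1), (7, 1), (11, 1)] := by
  have := fin
  have := simple
  obtain ⟨x, hx, rfl⟩ := exists_gen (by norm_num) hR
  have h1 := cent11 hx
  rw [cent_zpowers]
  refine ⟨h1, ?_⟩
  set c := Nat.card (centralizer ({x} : Set G)) with hc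
  have hd : c ∣ n_co2 := card ▸ card_subgroup_dvd_card _
  have h11 : 11 ∣ c := by
    rw [← hx, hc, ← Nat.card_zpowers]
    refine card_dvd_of_le ?_
    rw [zpowers_le, mem_centralizer_singleton_iff]
  have h3 : ¬ 3 ∣ c := by
    intro h3
    have : Fact (Nat.Prime 3) := ⟨Nat.prime_three⟩
    obtain ⟨y, hy⟩ := exists_prime_orderOf_dvd_card' 3 h3
    exact not_three hx (by rw [orderOf_coe, hy] : orderOf (y : G) = 3)
      (mem_centralizer_singleton_iff.1 y.2).symm
  obtain ⟨k, hk⟩ := h11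
  have hk12 : k ≤ 12 := by omega
  rw [hk] at hd h3 ⊢
  have hn : n_co2 = 42305421312000 := rfl
  rw [hn] at hd
  show 11 * k ∣ prodl _
  interval_cases k <;> first
    | (exfalso; revert h3; decide)
    | (exfalso; revert hd; decide)
    | decide

theorem nc11 {R : Subgroup G} (hR : Nat.card R = 11) : Nat.card (centralizer (R : Set G)) ∣ 110 ∧
    Nat.card (normalizer (R : Set G)) ∣ 110 := by
  have := fin
  have := simple
  have h1 := cnP_sound hna card (by decide +kernel) (by decide +kernel) (by decide +kernel) hR (cent_dvd hR).2 chk11 hR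
  rw [Bool.or_eq_true, Bool.and_eq_true, beq_iff_eq, beq_iff_eq, Bool.not_eq_true'] at h1
  rcases h1 with h1 | h1
  · exfalso
    have h2 := (cent_dvd hR).1
    rw [← Nat.ble_eq, h1] at h2
    exact absurd h2 (by decide)
  · exact ⟨Nat.dvd_of_mod_eq_zero h1.1, Nat.dvd_of_mod_eq_zero h1.2⟩

theorem nc23 {R : Subgroup G} (hR : Nat.card R = 23) : Nat.card (centralizer (R : Set G)) = 23 ∧
    Nat.card (normalizer (R : Set G)) = 253 := by
  have := fin
  have := simple
  refine cn_exact hna card (by decide +kernel) (by decide +kernel) (by decide +kernel) hR ?_ chk23 hR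
  obtain ⟨x, hx, rfl⟩ := exists_gen (by norm_num) hR
  rw [cent_zpowers, cent23 hx]
  decide

theorem ctx (B : Base) : Ctx G l_co2 n_co2 o_co2 loc where
  fin := fin
  simple := simple
  card := card
  val := v_co2
  nodup := nd_co2
  ords := ords_co2 B
  loc := by
    intro ld hld
    simp only [loc, List.mem_cons, List.not_mem_nil, or_false] at hld
    rcases hld with rfl | rfl
    · exact loc_of_eq card (by decide +kernel) (by decide +kernel) (by decide +kernel) fun R hR => by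
        obtain ⟨h1, h2⟩ := nc11 hR
        exact ⟨h1, h2⟩
    · exact loc_of_eq card (by decide +kernel) (by decide +kernel) (by decide +kernel) fun R hR => by
        obtain ⟨h1, h2⟩ := nc23 hR
        rw [h1, h2]; decide

/-! ### The subgroups -/

open Cfsg.Agent.Co2Type.TData Cfsg.Agent.Co2Type.FactsD in
/-- the centralizer of the 2-central involution -/
abbrev Cz : Subgroup G := centralizer ({ge mz} : Set Cfsg.Spor.Co2)

open Cfsg.Agent.KFacts.CoTwo Cfsg.Agent.Co2Type.TData Cfsg.Agent.Co2Type.FactsD in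
theorem card_Cz : Nat.card Cz = 743178240 := by
  have := fin
  have := simple
  obtain ⟨π, hs, hk⟩ := Quot.quot QuotInst.hyp
  have h1 : Nat.card Cz = Nat.card (Cz ⧸ π.ker) * Nat.card π.ker :=
    Subgroup.card_eq_card_quotient_mul_card_subgroup _
  have h2 : Nat.card (Cz ⧸ π.ker) = 1451520 := by
    rw [Nat.card_congr (QuotientGroup.quotientKerEquivOfSurjective π hs).toEquiv,
      Cfsg.Agent.S0245.result (F := ZMod 2) (q := 2) (ZMod.card 2) 3]
    decide
  have h3 : Nat.card π.ker = 512 := by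
    have h4 := QuotInst.hyp.card
    rw [show (512 : ℕ) = 2 ^ 9 from rfl, ← h4]
    refine Nat.card_congr ⟨fun c => ⟨c.1.1, (hk c.1).1 c.2⟩, fun x => ⟨⟨x.1, ?_⟩, ?_⟩, fun c => rfl, fun x => rfl⟩
    · rw [mem_centralizer_singleton_iff]
      exact QuotInst.hyp.large.comm_z _ x.2
    · rw [MonoidHom.mem_ker, hk]
      exact x.2
  rw [h1, h2, h3]

open Cfsg.Agent.KFacts.CoTwo in
/-- the index of a proper subgroup is at least 64 -/
theorem index_ge {H : Subgroup G} (hH : H ≠ ⊤) : 64 ≤ H.index := by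
  have := fin
  have := simple
  exact ExtraIdx.index_ge (n := 4) QuotInst.hyp.large (by norm_num) QuotInst.hyp.card RIrr.irr hH

theorem five (B : Base) : Sep 5 G := by
  have c := ctx B
  have := c.fin
  have := c.simple
  have hc := card
  -- the maximal subgroup
  obtain ⟨M, hM, hMi, -⟩ := Cfsg.Agent.SporadicStructure.Co2RankThree.rank_three (MulEquiv.refl Cfsg.Spor.Co2)
  have cM : Nat.card M = 18393661440 := by
    have h1 := card_mul_index M
    rw [hMi, hc] at h1
    have hn : n_co2 = 42305421312000 := rfl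
    omega
  -- `McL`
  have cL : Nat.card ((Cfsg.Spor.McL).subgroupOf Cfsg.Spor.Co2) = 898128000 := by
    rw [Nat.card_congr (subgroupOfEquivOfLe Cfsg.Agent.Omega.Quasithin.Row.McL.McL_le_Co2).toEquiv]
    exact Cfsg.Agent.Schreier.McLaughlin.card_mcl
  -- the normalizer of a Sylow 5-subgroup
  have : Fact (Nat.Prime 5) := ⟨Nat.prime_five⟩
  obtain ⟨P⟩ : Nonempty (Sylow 5 G) := inferInstance
  have cP : 125 ∣ Nat.card (normalizer ((P : Subgroup G) : Set G)) := by
    have h1 : 5 ^ 3 ∣ Nat.card P := by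
      rw [P.card_eq_multiplicity, hc]
      refine pow_dvd_pow 5 ?_
      rw [← Nat.Prime.pow_dvd_iff_le_factorization Nat.prime_five (by decide)]
      decide +kernel
    exact (show (125 : ℕ) = 5 ^ 3 from rfl) ▸ h1.trans (card_dvd_of_le le_normalizer)
  have fP : ∀ p ∈ [5], Full p (normalizer ((P : Subgroup G) : Set G)) := by
    intro p hp; rw [List.mem_singleton.1 hp]
    exact full_normalizer Nat.prime_five P
  -- the normalizer of a Sylow 23-subgroup
  obtain ⟨R, hR⟩ := exists_card_eq (G := G) (r := 23) (by decide +kernel) (by rw [hc]; decide +kernel)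
  have cR := (nc23 hR).2
  have fR : ∀ p ∈ [23], Full p (normalizer (R : Set G)) := by
    intro p hp; rw [List.mem_singleton.1 hp]
    exact full_of_card hc (by decide +kernel) (by decide +kernel) hR
  have ne : ∀ {A : Subgroup G} {k : ℕ}, Nat.card A = k → (k != n_co2) = true → A ≠ ⊤ := by
    intro A k h1 h2 h3
    rw [h3, card_top, hc] at h1
    rw [bne_iff_ne] at h2
    exact h2 h1.symm
  have aMP : Apart M (normalizer ((P : Subgroup G) : Set G)) :=
    apart_of_coatom_dvd hM cP (by rw [cM]; decide +kernel)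
  have neP : normalizer ((P : Subgroup G) : Set G) ≠ ⊤ := by
    intro h
    rcases (normalizer_eq_top_iff.1 h).eq_bot_or_eq_top with h1 | h1
    · have h2 : Nat.card P = 1 := by
        rw [show Nat.card P = Nat.card (P : Subgroup G) from rfl, h1, card_bot]
      have h3 : 5 ^ 3 ∣ Nat.card P := by
        rw [P.card_eq_multiplicity, hc]
        refine pow_dvd_pow 5 ?_
        rw [← Nat.Prime.pow_dvd_iff_le_factorization Nat.prime_five (by decide)]
        decide +kernel
      rw [h2] at h3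
      exact absurd h3 (by decide)
    · have h2 : Nat.card P = n_co2 := by
        rw [show Nat.card P = Nat.card (P : Subgroup G) from rfl, h1, card_top, hc]
      obtain ⟨k, hk⟩ := IsPGroup.iff_card.1 P.isPGroup'
      rw [hk] at h2
      have h3 : 2 ∣ 5 ^ k := by rw [h2]; decide +kernel
      have h4 := (Nat.prime_dvd_prime_iff_eq Nat.prime_two Nat.prime_five).1 (Nat.prime_two.dvd_of_dvd_pow h3)
      exact absurd h4 (by decide)
  have hal : ∀ (L : List ℕ), (∀ k ∈ L, k < 64) → ∀ K : Subgroup G, K ≠ ⊤ → K.index ∉ L := by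
    intro L hL K hK hm
    have h1 := index_ge hK
    have h2 := hL _ hm
    omega
  exact sep_five hM.1 (ne card_Cz (by decide +kernel)) (ne cL (by decide +kernel)) neP
    (ne cR (by decide +kernel))
    (apart_of_coatom_dvd hM (b := 2 ^ 18) (by rw [card_Cz]; decide +kernel) (by rw [cM]; decide +kernel))
    (apart_of_coatom_dvd hM (b := 5 ^ 3) (by rw [cL]; decide +kernel) (by rw [cM]; decide +kernel))
    aMP
    (apart_of_coatom_dvd hM (b := 23) (by rw [cR]; decide +kernel) (by rw [cM]; decide +kernel))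
    (EngAllow.apart_allow c card_Cz.symm.dvd cL.symm.dvd [(23, 1)] [23] [] [] 60 (by simp) (by simp) (by decide +kernel)
      (hal _ (by decide)))
    (c.apart card_Cz.symm.dvd cP [(3, 2), (11, 1), (23, 1)] [] [5] 60 (by simp) fP (by decide +kernel))
    (c.apart card_Cz.symm.dvd cR.symm.dvd [(3, 2), (5, 2)] [] [23] 60 (by simp) fR (by decide +kernel))
    (EngAllow.apart_allow c cL.symm.dvd cP [(2, 11), (23, 1)] [46] [] [5] 60 (by simp) fP (by decide +kernel)
      (hal _ (by decide)))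
    (c.apart cL.symm.dvd cR.symm.dvd [(2, 11)] [] [23] 60 (by simp) fR (by decide +kernel))
    (c.apart cP cR.symm.dvd [(2, 18), (3, 6), (7, 1)] [5] [23] 60 fP fR (by decide +kernel))

end Cfsg.Agent.H89.SepCo2
end

private theorem dce_761d88782cef : _root_.True := by
  try have : _root_.True := by simp only [_root_.Cfsg.Agent.H89.SepCo2.loc.eq_1]
  exact _root_.True.intro
end

-- part: H966/Gen/CoTwo
section
set_option linter.all false
open scoped Cfsg.Agent.FastGrp

/-!
# S4327, row `Co2` (helper966)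

Generic in the model `M` of `Co2` (22 × 22 matrices over `F₂`): for every class representative (words of helper68) the
product of at most four conjugates has order 23; the chain of the orders divisible by 23 has height 4.
-/

set_option autoImplicit false
set_option maxRecDepth 100000

namespace Cfsg.Agent.H966.Gen.CoTwo

open Cfsg Subgroup
open Cfsg.Agent.H633.Ore Cfsg.Agent.H68.Ore.Words Cfsg.Agent.H612.Ore.CoTwo23
open Cfsg.Agent.H147.Gen Cfsg.Agent.H940.Eng Cfsg.Agent.H940.Eng.D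

universe u

/-- orders divisible by 23 -/
def os23 : List ℕ := [23, 253, 6072, 47104, 518144, 10200960, 244823040, 20891566080]

theorem ho23 : chkO2 l_co2 n_co2 23 ⟨23, 23, [(11, 1), (23, 1)]⟩ os23 [] 20 H89.SepCo2.loc o_co2 = true := by
  decide +kernel
theorem hm23 : chainOK2 os23 4 = true := by decide +kernel

/-- the word of the product of the conjugates -/
def pc (r : List ℕ) (hs : List (List ℕ)) : List ℕ := hs.flatMap fun h => h ++ r ++ h.reverse

/-- the check of one class: the product has order 23 -/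
noncomputable def chkJ (gs : ℕ → List ℕ) (id W : List ℕ) : Bool :=
  wF gs W.reverse id fun X => cond (Nat.beq (linL X 1) 1) false (pow23 X fun X23 => beqL X23 id)

/-- the whole check -/
noncomputable def chkG (gs : ℕ → List ℕ) (id : List ℕ) (T : List ((List ℕ × List ℕ) × List (List ℕ))) : Bool :=
  List.rec true (fun t _ ih => cond (Nat.ble t.2.length 7) (cond (chkJ gs id (pc (cw t.1) t.2)) ih false) false) T

/-- the table: `((a, b), conjugating words)` -/
def T : List ((List ℕ × List ℕ) × List (List ℕ)) := [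
  (([2], [1, 0, 2, 0, 2, 1, 0, 1, 2, 0, 1, 0, 2, 0, 1, 2, 0, 1]), [[], [1, 0], [0, 1], [1, 0, 2, 1, 2, 0]]),
  (([1], [0, 2, 1, 0, 1, 2, 0]), [[], [0, 1, 2, 0, 1, 0], [2]]),
  (([1], [0, 1, 0]), [[], [2, 0, 2, 1, 0, 2], [2, 1, 2, 0, 2]]),
  (([1, 2], [0, 2, 0, 1, 0, 2, 0, 1]), [[], [1, 2, 1, 2, 1, 2]]),
  (([2], [0]), [[], [1, 2, 0, 1, 2, 1]]),
  (([1], [0, 1, 2, 0, 1, 2, 1, 2, 1, 0]), [[], [0, 1, 2]]),
  (([2, 0, 1, 0], [1, 0, 2, 1, 2, 0, 1, 2]), [[], [0, 2, 1, 2, 1, 2]]),
  (([1], [0, 1, 2, 1, 0, 2, 0, 2]), [[], [0, 2, 0, 2, 0]]),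
  (([2], [1, 0, 1, 2, 0, 1]), [[], [0, 1, 0]]),
  (([2], [0, 1]), [[], [1]]),
  (([1], [0]), [[], [2, 0, 1, 2, 1, 2]]),
  (([2], [0, 1, 2, 0, 1, 2, 1, 2, 0, 2, 1, 0]), [[], [1, 2], [0, 1, 2, 1, 0, 2]]),
  (([1], [0, 2, 0, 1, 2, 0, 1, 0, 2]), [[], [2]]),
  (([2], [0, 2, 1]), [[], [0, 1, 0, 1, 2, 0]]),
  (([1], [0, 2, 0, 1, 2, 1, 0, 1, 2, 0]), [[], [0, 1, 2, 0, 1, 2, 1]]),
  (([0, 2], [1, 0, 1, 0, 2, 0, 1]), [[], [0, 2, 1, 2]]),
  (([1], [2, 0, 1, 0, 1, 2]), [[], [0, 1, 0]]),
  (([2], [0, 1, 0, 1]), [[], [0, 1, 2, 1, 2]]),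
  (([1], [0, 1, 0, 2, 1, 0, 1, 0, 2]), [[], [2, 1, 2]]),
  (([0, 2, 1, 2], [1, 2, 1, 0, 2, 0, 2]), [[], [0, 1]]),
  (([0, 1], [1, 2, 1, 2]), [[], [0, 1, 0, 2]]),
  (([1], [0, 1, 2, 1, 2, 1, 0, 1, 0, 2]), [[], [2, 0, 2]]),
  (([0, 2], [1, 0, 1, 0]), [[], [2, 1, 2]]),
  (([1], [0, 1, 2, 0, 1, 0, 2]), [[], [0, 1, 0, 1, 2]]),
  (([1], [0, 2, 0, 2]), [[], [0, 1, 2, 0, 1, 2, 1]]),
  (([1], [0, 1, 0, 2]), [[], [2]]),
  (([1], [2, 0, 2, 1, 0, 1, 2]), [[], [0, 2, 1]]),
  (([0, 1], [1, 2, 0, 2]), [[], [0, 1, 0, 1, 2, 1]]),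
  (([1], [0, 2, 0, 1, 2, 0, 2]), [[], [0, 1, 0, 2]]),
  (([0, 1], [1, 2, 0, 1, 2]), [[], [0, 2]]),
  (([0, 1], [1, 2, 0, 1, 0, 1, 2]), [[], [0, 1, 0]]),
  (([0, 1], [2, 0, 2, 1, 2]), [[], [0, 2, 1]]),
  (([1], [0, 2, 0, 1, 0, 1, 2, 0, 2, 0]), [[], [0, 2, 1]]),
  (([1], [0, 2, 0, 1, 2, 0, 2, 0, 1, 2, 0]), [[], [2, 0, 2, 0, 2]]),
  (([1], [0, 1, 2, 0, 1, 2]), [[], [0, 1, 2, 0]]),
  (([0, 2], [1, 0, 1, 2, 0, 2, 1]), [[], [0, 1]]),
  (([1], [0, 2, 1, 2, 1, 0, 2]), [[], [0, 2, 0]]),
  (([1, 0, 1, 0], [0, 2, 1, 2]), [[], [0, 1]]),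
  (([0, 1, 2, 1], [1, 0, 2]), [[], [2, 1, 2]]),
  (([1], [0, 1, 2]), [[], [0, 1, 0, 2]]),
  (([1], [0, 2, 1, 2, 0]), [[], [0, 2, 0]]),
  (([0, 2], [1, 0, 1, 0, 2, 1]), [[], [0, 1, 2, 1]]),
  (([1, 0, 2, 0], [0, 1, 0, 2, 1]), [[], [1, 0, 2]]),
  (([1, 0, 2, 0], [0, 1, 2]), [[], [0, 1, 0]]),
  (([2, 0, 1, 0, 1, 0], [0, 1, 0, 2, 0, 2, 0]), [[], [0, 1, 2]]),
  (([0, 2], [1, 0, 2, 1, 0]), [[], [2, 1, 2]]),
  (([1], [2, 0, 1, 2]), [[], [0, 2]]),
  (([1], [0, 1, 2, 0]), [[], [0, 2, 0]]),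
  (([0, 1, 2, 1, 2, 1], [1, 0, 1, 2, 1]), [[], [0, 1, 0, 1, 2]]),
  (([0, 1], [1, 2]), [[]]),
  (([0, 2], [1, 0, 1, 2, 0, 1, 0]), [[], [1, 0, 2, 1]]),
  (([1], [0, 1, 0, 2, 0]), [[], [0, 2, 1, 2]]),
  (([1], [0, 2]), [[], [0, 1, 0, 1, 2]]),
  (([1], [0, 2, 0, 1, 2, 0, 1, 2]), [[], [0, 1, 0, 1, 2, 1]]),
  (([0, 1], [2, 0, 1, 0, 2, 1, 2]), [[], [0, 2, 0]])]

theorem T_L : ∀ p ∈ Cfsg.Agent.H68.Ore.Co2Words.L, p = ([], []) ∨ ∃ t ∈ T, t.1 = p := by decide

section

variable {G : Type*} [Group G] {Y : Type*} [MulAction G Y] (M : Mdl G Y) {tt : ℕ → G} {gs : ℕ → List ℕ}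

theorem wd_pc (htt : ∀ k, tt k * tt k = 1) (r : List ℕ) (hs : List (List ℕ)) (H : Subgroup G)
    (h : ∀ w ∈ hs, wd tt w * wd tt r * (wd tt w)⁻¹ ∈ H) : wd tt (pc r hs) ∈ H := by
  unfold pc
  induction hs with
  | nil => exact H.one_mem
  | cons w hs ih =>
    rw [List.flatMap_cons, wd_append, wd_append, wd_append, wd_reverse htt]
    exact H.mul_mem (h w (List.mem_cons_self ..)) (ih fun w' hw' => h w' (List.mem_cons_of_mem _ hw'))

/-- soundness of the check of one class -/
theorem sound (hgs : ∀ k, M.Rp (gs k) (tt k)) (hy : ∃ y : Y, M.cd y = 1) {W : List ℕ}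
    (h : chkJ gs (idL M.w) W = true) : orderOf (wd tt W) = 23 := by
  unfold chkJ at h
  rw [wF_eq] at h
  have hX := rp_wd M hgs W
  generalize mW gs W.reverse (idL M.w) = X at h hX
  cases h2 : Nat.beq (linL X 1) 1
  swap
  · rw [h2] at h; exact absurd h Bool.false_ne_true
  rw [h2] at h
  obtain ⟨X', e3, h3⟩ := rp_pow M hX (β := Bool) fun X23 => beqL X23 (idL M.w)
  have h4 : beqL X' (idL M.w) = true := by rw [← e3]; exact h
  have h5 : (wd tt W) ^ 23 = 1 := by
    refine eq_of_rp M h3 ?_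
    rw [eq_of_beqL h4]
    exact Mdl.Rp.one M
  have h6 : wd tt W ≠ 1 := by
    intro h7
    obtain ⟨y, hy⟩ := hy
    have h8 := hX y
    rw [h7, one_smul, hy] at h8
    rw [← h8] at h2
    exact absurd h2 (by decide)
  have : Fact (Nat.Prime 23) := ⟨by norm_num⟩
  exact orderOf_eq_prime h5 h6

/-- at most seven conjugates generate a group of order divisible by 23 -/
def Gd (g : G) : Prop := ∃ (k : ℕ) (_ : k ≤ 7) (f : Fin k → G),
  23 ∣ Nat.card (closure (Set.range fun i => f i * g * (f i)⁻¹))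

theorem Gd.conj {g : G} (h : Gd g) (x : G) : Gd (x * g * x⁻¹) := by
  obtain ⟨k, hk, f, hf⟩ := h
  refine ⟨k, hk, fun i => f i * x⁻¹, ?_⟩
  have e : (fun i => f i * x⁻¹ * (x * g * x⁻¹) * (f i * x⁻¹)⁻¹) = fun i => f i * g * (f i)⁻¹ := by
    funext i
    group
  rw [e]
  exact hf

theorem Gd.inv {g : G} (h : Gd g) : Gd g⁻¹ := by
  obtain ⟨k, hk, f, hf⟩ := h
  refine ⟨k, hk, f, ?_⟩
  have e : closure (Set.range fun i => f i * g⁻¹ * (f i)⁻¹) = closure (Set.range fun i => f i * g * (f i)⁻¹) := by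
    apply le_antisymm
    · rw [closure_le]
      rintro _ ⟨i, rfl⟩
      have h1 : f i * g⁻¹ * (f i)⁻¹ = (f i * g * (f i)⁻¹)⁻¹ := by group
      show f i * g⁻¹ * (f i)⁻¹ ∈ closure (Set.range fun i => f i * g * (f i)⁻¹)
      rw [h1]
      exact inv_mem (subset_closure ⟨i, rfl⟩)
    · rw [closure_le]
      rintro _ ⟨i, rfl⟩
      have h1 : f i * g * (f i)⁻¹ = (f i * g⁻¹ * (f i)⁻¹)⁻¹ := by group
      show f i * g * (f i)⁻¹ ∈ closure (Set.range fun i => f i * g⁻¹ * (f i)⁻¹)
      rw [h1]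
      exact inv_mem (subset_closure ⟨i, rfl⟩)
  rw [e]
  exact hf

/-- **all elements**, from the class cover -/
theorem gd_of [Finite G] (hgs : ∀ k, M.Rp (gs k) (tt k)) (htt : ∀ k, tt k * tt k = 1) (hy : ∃ y : Y, M.cd y = 1)
    (hT : chkG gs (idL M.w) T = true)
    (hc : ∀ g : G, ∃ w ∈ Cfsg.Agent.H68.Ore.Co2Words.L.map cw, IsConj (wd tt w) g ∨ IsConj (wd tt w)⁻¹ g) (l : G)
    (hl : l ≠ 1) : Gd l := by
  have key : ∀ T : List ((List ℕ × List ℕ) × List (List ℕ)), chkG gs (idL M.w) T = true → ∀ t ∈ T,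
      t.2.length ≤ 7 ∧ chkJ gs (idL M.w) (pc (cw t.1) t.2) = true := by
    intro T
    induction T with
    | nil => intro _ t ht; exact absurd ht List.not_mem_nil
    | cons s T ih =>
      intro h t ht
      have h' : cond (Nat.ble s.2.length 7) (cond (chkJ gs (idL M.w) (pc (cw s.1) s.2)) (chkG gs (idL M.w) T) false)
        false = true := h
      cases h0 : Nat.ble s.2.length 7
      · rw [h0] at h'; exact absurd h' Bool.false_ne_true
      rw [h0] at h'
      cases h1 : chkJ gs (idL M.w) (pc (cw s.1) s.2)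
      · rw [h1] at h'; exact absurd h' Bool.false_ne_true
      · rw [h1] at h'
        rcases List.mem_cons.1 ht with h2 | h2
        · rw [h2]; exact ⟨Nat.le_of_ble_eq_true h0, h1⟩
        · exact ih h' t h2
  obtain ⟨w, hw, hg⟩ := hc l
  obtain ⟨p, hp, rfl⟩ := List.mem_map.1 hw
  rcases T_L p hp with h1 | ⟨t, ht, h1⟩
  · exfalso
    have h2 : wd tt (cw p) = 1 := by rw [h1]; rfl
    rw [h2] at hg
    apply hl
    rcases hg with hg | hg
    · rwa [isConj_one_right] at hg
    · rwa [inv_one, isConj_one_right] at hg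
  · obtain ⟨h3, h4⟩ := key T hT t ht
    rw [h1] at h4
    have h5 := sound M hgs hy h4
    have h2 : Gd (wd tt (cw p)) := by
      refine ⟨t.2.length, h3, fun i => wd tt (t.2.get i), ?_⟩
      rw [← h5]
      refine dvd_card_of_mem (wd_pc htt _ _ _ fun w hw => ?_)
      obtain ⟨i, rfl⟩ := List.get_of_mem hw
      exact subset_closure ⟨i, rfl⟩
    rcases hg with hg | hg
    · obtain ⟨x, rfl⟩ := isConj_iff.1 hg
      exact Gd.conj h2 x
    · obtain ⟨x, rfl⟩ := isConj_iff.1 hg
      exact Gd.conj (Gd.inv h2) x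

end

/-- **the elements of `Co2`** -/
theorem cg_of (B : Base) {Y : Type*} [MulAction Spor.Co2 Y] (M : Mdl Spor.Co2 Y) {tt : ℕ → Spor.Co2} {gs : ℕ → List ℕ}
    (hgs : ∀ k, M.Rp (gs k) (tt k)) (htt : ∀ k, tt k * tt k = 1) (hy : ∃ y : Y, M.cd y = 1)
    (hT : chkG gs (idL M.w) T = true)
    (hc : ∀ g : Spor.Co2, ∃ w ∈ Cfsg.Agent.H68.Ore.Co2Words.L.map cw, IsConj (wd tt w) g ∨ IsConj (wd tt w)⁻¹ g)
    {g : Spor.Co2} (hg : g ≠ 1) : CG 11 g := by
  have c := H89.SepCo2.ctx B
  have := c.fin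
  obtain ⟨k, hk, f, hf⟩ := gd_of M hgs htt hy hT hc g hg
  exact (CG.of_eng2 c os23 (fun S ha hS => orders2 c ⟨23, 23, [(11, 1), (23, 1)]⟩ (by simp [H89.SepCo2.loc]) os23 20 ho23
    S ha hS) hm23 hg f hf).mono (by omega)

/-- **the row `Co2`** -/
theorem gen_of (B : Base) {Y : Type*} [MulAction Spor.Co2 Y] (M : Mdl Spor.Co2 Y) {tt : ℕ → Spor.Co2} {gs : ℕ → List ℕ}
    (hgs : ∀ k, M.Rp (gs k) (tt k)) (htt : ∀ k, tt k * tt k = 1) (hy : ∃ y : Y, M.cd y = 1)
    (hT : chkG gs (idL M.w) T = true)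
    (hc : ∀ g : Spor.Co2, ∃ w ∈ Cfsg.Agent.H68.Ore.Co2Words.L.map cw, IsConj (wd tt w) g ∨ IsConj (wd tt w)⁻¹ g)
    {K : Type u} [Group K] (hcK : center K = ⊥) (hin : ∀ x : MulAut K, x ∈ (MulAut.conj : K →* MulAut K).range)
    (h : Spor.IsoCo2 K) : Gen11 K := by
  obtain ⟨e⟩ := h
  refine gen11_of_inner hcK (fun p hp => ?_) hin
  refine GenI.congr e.symm fun g hg => cg_of B M hgs htt hy hT hc ?_
  rintro rfl
  rw [orderOf_one] at hg
  exact hp.one_lt.ne hg

end Cfsg.Agent.H966.Gen.CoTwo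
end
end
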